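import Groth.Agent.An92.Morse.Hensel
import Groth.Agent.Quad37.Disc
import Groth.Prelude.Def_QuadSing

/-! Ordinary quadratic forms in an odd number of variables in characteristic two. -/

set_option autoImplicit false
set_option linter.style.haveILetI false

universe u

open Matrix

namespace Groth.Agent.An92.MorseD

/-- The polar matrix of `Q(L x)`. -/
theorem polarMatrix_symT {R : Type u} [CommRing R] {N : ℕ} (W : Matrix (Fin N) (Fin N) R) :
    VanCyc.polarMatrix (Morse.symT W) = W + Wᵀ := by
  ext i j
  rcases lt_trichotomy i j with h | rfl | h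
  · simp [VanCyc.polarMatrix, Morse.symT, h.ne, h]
  · simp [VanCyc.polarMatrix, Morse.symT, two_mul]
  · simp [VanCyc.polarMatrix, Morse.symT, h.ne', h.not_gt, h.ne, add_comm]

theorem polarMatrix_congr {R : Type u} [CommRing R] {N : ℕ} (q : Fin N → Fin N → R)
    (L : Matrix (Fin N) (Fin N) R) :
    VanCyc.polarMatrix (Morse.symT (Lᵀ * QS97.upper q * L)) = Lᵀ * VanCyc.polarMatrix q * L := by
  have h : VanCyc.polarMatrix q = QS97.upper q + (QS97.upper q)ᵀ := by
    ext i j
    rw [QS97.polarMatrix_eq_upper]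
    rfl
  rw [polarMatrix_symT, h, Matrix.mul_add, Matrix.add_mul]
  simp only [Matrix.transpose_mul, Matrix.transpose_transpose, Matrix.mul_assoc]

/-- Isolating the radical coordinate. -/
theorem exists_deg_form {k : Type u} [Field k] [CharP k 2] (K : Type u) [Field K] [Algebra k K] [IsAlgClosed K]
    {m : ℕ} (q : Fin (2 * m + 1) → Fin (2 * m + 1) → k)
    (hord : VanCyc.QuadOrd fun i j => algebraMap k K (q i j)) :
    ∃ (L : Matrix (Fin (2 * m + 1)) (Fin (2 * m + 1)) k) (c : k) (a' : Fin (2 * m) → Fin (2 * m) → k),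
      IsUnit L.det ∧ c ≠ 0 ∧ VanCyc.QuadNondeg a' ∧
      ∀ (R : Type u) [CommRing R] (f : k →+* R) (x : Fin (2 * m + 1) → R),
        VanCyc.quadEval (fun i j => f (q i j)) (L.map f *ᵥ x) =
          f c * (x 0 ^ 2 + VanCyc.quadEval (fun i j => f (a' i j)) (fun i => x i.succ)) := by
  classical
  let P := VanCyc.polarMatrix q
  have hdet : P.det = 0 := by
    refine Quad37.det_eq_zero_of_alternating_odd (by simp) P (fun i j => ?_) fun i => ?_
    · show VanCyc.polarMatrix q i j = VanCyc.polarMatrix q j i
      rw [QS97.polarMatrix_eq_upper, QS97.polarMatrix_eq_upper, add_comm]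
    · show VanCyc.polarMatrix q i i = 0
      rw [QS97.polarMatrix_eq_upper, CharTwo.add_self_eq_zero]
  obtain ⟨v, hv0, hPv⟩ := Matrix.exists_mulVec_eq_zero_iff.2 hdet
  let φ := algebraMap k K
  have hordk : ∀ u, P *ᵥ u = 0 → VanCyc.quadEval q u = 0 → u = 0 := fun u h1 h2 => by
    have h := hord (φ ∘ u) ?_ ?_
    · exact funext fun i => φ.injective ((congrFun h i).trans (map_zero φ).symm)
    · rw [show (φ ∘ u) = fun i => φ (u i) from rfl, ← QS97.map_quadEval, h2, map_zero]
    · rw [QS97.polarMatrix_map]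
      funext i
      rw [← RingHom.map_mulVec, h1]
      simp
  -- a basis whose first vector spans the radical
  obtain ⟨i₀, hi₀⟩ := Function.ne_iff.1 hv0
  let E : Matrix (Fin (2 * m + 1)) (Fin (2 * m + 1)) k := (1 : Matrix _ _ k).updateCol i₀ v
  let L : Matrix (Fin (2 * m + 1)) (Fin (2 * m + 1)) k := E.submatrix id (Equiv.swap 0 i₀)
  have hEdet : IsUnit E.det := by
    refine isUnit_iff_ne_zero.2 ?_
    have h : E.det = v i₀ := by
      rw [← Matrix.cramer_apply, Matrix.cramer_one]
      rfl
    rw [h]
    simpa using hi₀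
  have hL : IsUnit L.det := by
    show IsUnit (E.submatrix id (Equiv.swap 0 i₀)).det
    rw [Matrix.det_permute']
    exact (((Equiv.Perm.sign (Equiv.swap 0 i₀)).isUnit).map (Int.castRingHom k)).mul hEdet
  have hL0 : ∀ i, L i 0 = v i := fun i => by
    simp [L, E, Equiv.swap_apply_left]
  let a := Morse.symT (Lᵀ * QS97.upper q * L)
  have hPa : VanCyc.polarMatrix a = Lᵀ * P * L := polarMatrix_congr q L
  have hsym : Pᵀ = P := by
    ext i j
    show VanCyc.polarMatrix q j i = VanCyc.polarMatrix q i j
    rw [QS97.polarMatrix_eq_upper, QS97.polarMatrix_eq_upper, add_comm]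
  have hcol : ∀ i, (Lᵀ * P * L) i 0 = 0 := fun i => by
    rw [Matrix.mul_assoc, Matrix.mul_apply]
    refine Finset.sum_eq_zero fun l _ => ?_
    have : (P * L) l 0 = (P *ᵥ v) l := by
      rw [Matrix.mul_apply]
      exact Finset.sum_congr rfl fun r _ => by rw [hL0]
    rw [this, hPv, Pi.zero_apply, mul_zero]
  have ha0 : ∀ j : Fin (2 * m), a 0 j.succ = 0 := fun j => by
    have h : VanCyc.polarMatrix a j.succ 0 = 0 := by rw [hPa]; exact hcol _
    simpa [VanCyc.polarMatrix, Fin.succ_ne_zero] using h
  let c := a 0 0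
  have hsplit : ∀ (R : Type u) [CommRing R] (f : k →+* R) (x : Fin (2 * m + 1) → R),
      VanCyc.quadEval (fun i j => f (q i j)) (L.map f *ᵥ x) =
        f c * x 0 ^ 2 + VanCyc.quadEval (fun i j : Fin (2 * m) => f (a i.succ j.succ)) (fun i => x i.succ) :=
    fun R _ f x => by
    have hU : QS97.upper (fun i j => f (q i j)) = (QS97.upper q).map f := by
      ext i j : 1
      simp only [QS97.upper, Matrix.map_apply]
      split <;> simp
    rw [Morse.quadEval_mulVec, hU]
    have hW : Morse.symT ((L.map f)ᵀ * (QS97.upper q).map f * L.map f) = fun i j => f (a i j) := by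
      funext i j
      show _ = f (Morse.symT (Lᵀ * QS97.upper q * L) i j)
      rw [Morse.symT_map, Matrix.map_mul, Matrix.map_mul, Matrix.transpose_map]
    rw [show (Morse.symT ((L.map f)ᵀ * (QS97.upper q).map f * L.map f)) = fun i j => f (a i j) from hW]
    simp only [VanCyc.quadEval, Fin.sum_univ_succ, Fin.zero_le, if_true, ha0, map_zero, zero_mul,
      Finset.sum_const_zero, add_zero, Fin.succ_le_succ_iff, show ∀ i : Fin (2 * m), ¬ i.succ ≤ 0 from
        fun i => fun h => Fin.succ_ne_zero i (le_antisymm h (Fin.zero_le _)), if_false, zero_add]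
    rw [show f c = f (a 0 0) from rfl]
    ring
  have hQv : c = VanCyc.quadEval q v := by
    have h := hsplit k (RingHom.id k) (Pi.single 0 1)
    rw [show L.map ⇑(RingHom.id k) = L from Matrix.map_id _, show L *ᵥ Pi.single 0 1 = v from funext fun i => by simp [hL0]] at h
    simp [VanCyc.quadEval, Fin.succ_ne_zero] at h
    exact h.symm
  have hc : c ≠ 0 := fun h => hv0 (hordk v hPv (hQv ▸ h))
  refine ⟨L, c, fun i j => c⁻¹ * a i.succ j.succ, hL, hc, ?_, fun R _ f x => ?_⟩
  · refine isUnit_iff_ne_zero.2 fun h0 => ?_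
    obtain ⟨w, hw0, hw⟩ := Matrix.exists_mulVec_eq_zero_iff.2 h0
    have hPw : ∀ s, P *ᵥ (L *ᵥ Fin.cons s w) = 0 := fun s => by
      have h1 : VanCyc.polarMatrix a *ᵥ Fin.cons s w = 0 := by
        funext i
        show ∑ j, VanCyc.polarMatrix a i j * Fin.cons (α := fun _ => k) s w j = 0
        rw [Fin.sum_univ_succ, show VanCyc.polarMatrix a i 0 = 0 by rw [hPa]; exact hcol i, zero_mul, zero_add]
        simp only [Fin.cons_succ]
        induction i using Fin.cases with
        | zero =>
          refine Finset.sum_eq_zero fun j _ => ?_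
          simp [VanCyc.polarMatrix, (Fin.succ_ne_zero j).symm, Fin.succ_pos, ha0]
        | succ i =>
          have h2 : VanCyc.polarMatrix (fun i j => c⁻¹ * a i.succ j.succ) =
              c⁻¹ • Matrix.of (fun i j : Fin (2 * m) => VanCyc.polarMatrix a i.succ j.succ) := by
            ext i j
            simp only [VanCyc.polarMatrix, Fin.succ_inj, Fin.succ_lt_succ_iff, Matrix.smul_apply, Matrix.of_apply,
              smul_eq_mul]
            split_ifs <;> ring
          rw [h2, Matrix.smul_mulVec, smul_eq_zero_iff_right (inv_ne_zero hc)] at hw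
          exact congrFun hw i
      rw [hPa, ← Matrix.mulVec_mulVec, ← Matrix.mulVec_mulVec] at h1
      have h3 := congrArg ((Lᵀ)⁻¹ *ᵥ ·) h1
      simp only [Matrix.mulVec_mulVec] at h3
      rw [Matrix.mulVec_zero, ← Matrix.mul_assoc, Matrix.nonsing_inv_mul _ (by rwa [Matrix.det_transpose]),
        Matrix.one_mul] at h3
      rwa [Matrix.mulVec_mulVec]
    let q₂ := VanCyc.quadEval (fun i j : Fin (2 * m) => φ (a i.succ j.succ)) (fun i => φ (w i))
    obtain ⟨s, hs⟩ := IsAlgClosed.exists_pow_nat_eq (q₂ / φ c) two_pos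
    let u : Fin (2 * m + 1) → K := Fin.cons s (fun i => φ (w i))
    have hz : L.map φ *ᵥ u = 0 := by
      refine hord _ ?_ ?_
      · haveI : CharP K 2 := charP_of_injective_algebraMap φ.injective 2
        rw [hsplit K φ u]
        simp only [u, Fin.cons_zero, Fin.cons_succ, hs]
        rw [mul_div_cancel₀ _ ((map_ne_zero φ).2 hc)]
        exact CharTwo.add_self_eq_zero q₂
      · have e : u = (fun i => φ (Fin.cons (α := fun _ => k) 0 w i)) + s • (fun i => φ (Pi.single (M := fun _ => k) 0 1 i)) := by
          funext i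
          induction i using Fin.cases with
          | zero => simp [u]
          | succ i => simp [u, Fin.succ_ne_zero]
        rw [QS97.polarMatrix_map, e, Matrix.mulVec_add, Matrix.mulVec_add, Matrix.mulVec_smul, Matrix.mulVec_smul]
        have h1 : ∀ z : Fin (2 * m + 1) → k, P *ᵥ (L *ᵥ z) = 0 → P.map φ *ᵥ (L.map φ *ᵥ fun i => φ (z i)) = 0 :=
          fun z hz => by
          funext i
          have e1 : (L.map φ *ᵥ fun i => φ (z i)) = fun i => φ ((L *ᵥ z) i) :=
            funext fun i => (RingHom.map_mulVec φ L z i).symm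
          rw [e1]
          refine ((RingHom.map_mulVec φ P (L *ᵥ z) i).symm.trans ?_)
          rw [hz]
          exact map_zero φ
        rw [h1 _ (hPw 0), h1 _ (by rw [show L *ᵥ Pi.single 0 1 = v from funext fun i => by simp [hL0]]; exact hPv),
          smul_zero, add_zero]
    have hu : u = 0 := by
      have h := congrArg ((L.map φ)⁻¹ *ᵥ ·) hz
      simp only [Matrix.mulVec_mulVec, Matrix.mulVec_zero] at h
      rwa [Matrix.nonsing_inv_mul _ (by
        rw [← RingHom.mapMatrix_apply, ← RingHom.map_det]; exact hL.map φ), Matrix.one_mulVec] at h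
    exact hw0 (funext fun i => φ.injective (by simpa [u] using congrFun hu i.succ))
  · rw [hsplit, mul_add]
    congr 1
    simp only [VanCyc.quadEval, Finset.mul_sum]
    refine Finset.sum_congr rfl fun i _ => Finset.sum_congr rfl fun j _ => ?_
    split
    · rw [map_mul, ← mul_assoc, ← mul_assoc, ← mul_assoc, ← map_mul, mul_inv_cancel₀ hc, map_one, one_mul]
    · rw [mul_zero]

end Groth.Agent.An92.MorseD
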