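import Groth.Agent.Henz21.QuasiFiniteLocal
import Groth.Agent.EtAlg23.HenselUniv
import Groth.Agent.An92.Morse.Surj
import Mathlib.RingTheory.EssentialFiniteness

/-! Henselizations of quasi-finite local algebras over a henselian local ring are finite. -/

set_option autoImplicit false
set_option linter.style.haveILetI false

universe u

open IsLocalRing

namespace Groth.Agent.An92.MorseD

theorem isHenselization_id (A : Type u) [CommRing A] [HenselianLocalRing A]
    [IsLocalHom (algebraMap A A)] : Hensel.IsHenselization A A :=
  ⟨‹_›, fun _ _ _ f _ => ⟨f, RingHom.ext fun _ => rfl, fun _ h => RingHom.ext fun a => RingHom.congr_fun h a⟩⟩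

/-- A local algebra with finite closed fibre has finite henselization over a henselian base. -/
theorem finite_henselization {A O Oh : Type u} [CommRing A] [HenselianLocalRing A] [CommRing O] [IsLocalRing O]
    [Algebra A O] [IsLocalHom (algebraMap A O)] [Algebra.EssFiniteType A O]
    [CommRing Oh] [IsLocalRing Oh] [Algebra O Oh] [IsLocalHom (algebraMap O Oh)]
    [Algebra A Oh] [IsScalarTower A O Oh] [hO : Hensel.IsHenselization O Oh]
    [hfin : Module.Finite A (O ⧸ (maximalIdeal A).map (algebraMap A O))] : Module.Finite A Oh := by
  classical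
  let S := Algebra.EssFiniteType.subalgebra A O
  haveI : Algebra.FiniteType A S := inferInstance
  let q : Ideal S := (maximalIdeal O).comap (algebraMap S O)
  have hsub : Algebra.EssFiniteType.submonoid A O = q.primeCompl := by
    ext s
    show IsUnit (algebraMap S O s) ↔ algebraMap S O s ∉ maximalIdeal O
    rw [mem_maximalIdeal, mem_nonunits_iff, not_not]
  haveI hloc : IsLocalization.AtPrime O q := by
    show IsLocalization q.primeCompl O
    rw [← hsub]; infer_instance
  have hqA : q.under A = maximalIdeal A := by
    show (q.comap (algebraMap A S)) = _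
    rw [Ideal.comap_comap, ← IsScalarTower.algebraMap_eq]
    exact ((local_hom_TFAE (algebraMap A O)).out 0 4).mp ‹_›
  haveI : Algebra.WeaklyQuasiFiniteAt A q := by
    rw [Algebra.weaklyQuasiFiniteAt_iff, hqA]
    let e : O ≃ₐ[A] Localization.AtPrime q :=
      (IsLocalization.algEquiv q.primeCompl O (Localization.AtPrime q)).restrictScalars A
    let f : (O ⧸ (maximalIdeal A).map (algebraMap A O)) →ₐ[A]
        Localization.AtPrime q ⧸ (maximalIdeal A).map (algebraMap A (Localization.AtPrime q)) :=
      Ideal.quotientMapₐ _ e.toAlgHom (by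
        rw [← Ideal.map_le_iff_le_comap]
        refine le_of_eq ((Ideal.map_map _ _).trans ?_)
        exact congrArg (fun h => Ideal.map h (maximalIdeal A)) e.toAlgHom.comp_algebraMap)
    have hf : Function.Surjective f := fun z => by
      obtain ⟨z, rfl⟩ := Ideal.Quotient.mk_surjective z
      obtain ⟨x, rfl⟩ := e.surjective z
      exact ⟨Ideal.Quotient.mk _ x, rfl⟩
    haveI : Module.Finite A (Localization.AtPrime q ⧸ (maximalIdeal A).map (algebraMap A (Localization.AtPrime q))) :=
      Module.Finite.of_surjective f.toLinearMap hf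
    exact Morse.quasiFinite_of_finite A _
  haveI : Algebra.QuasiFiniteAt A q := Algebra.QuasiFiniteAt.of_weaklyQuasiFiniteAt q
  obtain ⟨B', hB', hfrac⟩ := Henz21.exists_finite_subalgebra (R := A) (A := A) (Sq := O) q
  haveI : IsLocalHom (algebraMap A Oh) := by
    rw [IsScalarTower.algebraMap_eq A O Oh]; infer_instance
  haveI : IsLocalHom (algebraMap A A) := ⟨fun _ h => h⟩
  haveI := isHenselization_id A
  haveI : IsLocalHom (IsScalarTower.toAlgHom A A Oh).toRingHom := ‹IsLocalHom (algebraMap A Oh)›
  haveI : Algebra.IsIntegral A B' := inferInstance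
  exact Henz21.finite_of_baseChange (Henz21.baseChangeMap_henselization (A := A) (S := O) (Ash := A) (Ssh := Oh)
    (B' := B') (IsScalarTower.toAlgHom A A Oh) hfrac fun b hb => ⟨1, by simp, by
      rw [one_mul]; exact Subtype.ext hb⟩)

end Groth.Agent.An92.MorseD
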