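import Groth.Agent.An92.MorseA.Normal

/-! Henselizations of hypersurface models at the origin of the closed fibre. -/

set_option autoImplicit false
set_option linter.style.haveILetI false

universe u

open IsLocalRing Matrix

namespace Groth.Agent.An92.MorseD

open MorseA

variable (A : Type u) [CommRing A] [HenselianLocalRing A] (N : ℕ)

/-- The henselization of the model at the origin of the closed fibre. -/
theorem exists_cone_poly (p₀ : MvPolynomial (Fin N) A) (hQo : p₀ ∈ org A N)
    (Q : Ideal (MvPolynomial (Fin N) A ⧸ Ideal.span {p₀})) [Q.IsPrime]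
    (hQ : Q = (org A N).map (Ideal.Quotient.mk _)) (C : Type u) [CommRing C] [IsLocalRing C]
    [Algebra (Localization.AtPrime Q) C]
    [IsLocalHom (algebraMap (Localization.AtPrime Q) C)]
    [hC : Hensel.IsHenselization (Localization.AtPrime Q) C] :
    ∃ g : HA A N →+* C, Function.Surjective g ∧
      RingHom.ker g = Ideal.span {ι A N p₀} ∧
      ∀ c, g (κ A N c) =
        algebraMap (Localization.AtPrime Q) C (algebraMap A _ c) := by
  classical
  let R := HA A N
  let Pn := MvPolynomial (Fin N) A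
  let L := Localization.AtPrime Q
  let Qx : R := ι A N p₀
  haveI := hC.henselian
  have hmemO : ∀ p : Pn, Ideal.Quotient.mk _ p ∈ Q ↔ p ∈ org A N := fun p => by
    rw [hQ, ← Ideal.mem_comap, Ideal.comap_map_of_surjective _ Ideal.Quotient.mk_surjective,
      ← RingHom.ker_eq_comap_bot, Ideal.mk_ker, sup_eq_left.2 ((Ideal.span_singleton_le_iff_mem _).2 hQo)]
  let fC : Pn →+* C := ((algebraMap L C).comp (algebraMap ((MvPolynomial (Fin N) A ⧸ Ideal.span {p₀})) L)).comp (Ideal.Quotient.mk _)
  have hfC : ∀ p, p ∈ org A N → fC p ∈ maximalIdeal C := fun p hp => by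
    refine Morse.map_mem (A := L) (algebraMap L C) ?_
    rw [IsLocalization.AtPrime.to_map_mem_maximal_iff L Q, hmemO]
    exact hp
  obtain ⟨g, hg, hgl⟩ := (existsUnique_hom fC (fun a ha => hfC _ (by simpa [mem_org_iff] using ha))
    fun i => hfC _ (by simp [mem_org_iff])).1
  have hgQ : g Qx = 0 := by
    rw [show g Qx = fC _ from RingHom.congr_fun hg _]
    refine (congrArg (algebraMap L C) ((congrArg (algebraMap ((MvPolynomial (Fin N) A ⧸ Ideal.span {p₀})) L)
      (Ideal.Quotient.eq_zero_iff_mem.2 (Ideal.mem_span_singleton_self _))).trans (map_zero _))).trans (map_zero _)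
  have hne : Ideal.span {Qx} ≠ ⊤ := fun h => by
    have hu := (Ideal.span_singleton_eq_top.1 h).map g
    rw [hgQ] at hu
    exact not_isUnit_zero hu
  let π := Ideal.Quotient.mk (Ideal.span {Qx})
  haveI : Nontrivial (R ⧸ Ideal.span {Qx}) := Ideal.Quotient.nontrivial_iff.2 hne
  haveI : IsLocalRing (R ⧸ Ideal.span {Qx}) := IsLocalRing.of_surjective' π Ideal.Quotient.mk_surjective
  haveI : HenselianLocalRing R := inferInstance
  haveI hT := EtAlg23.henselianLocalRing_of_surjective π Ideal.Quotient.mk_surjective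
  haveI : IsLocalHom π := IsLocalHom.of_surjective _ Ideal.Quotient.mk_surjective
  let j0 : (MvPolynomial (Fin N) A ⧸ Ideal.span {p₀}) →+* R ⧸ Ideal.span {Qx} :=
    Ideal.Quotient.lift _ (π.comp (ι A N)) fun p hp => by
      obtain ⟨a, rfl⟩ := Ideal.mem_span_singleton'.1 hp
      rw [map_mul]
      exact mul_eq_zero_of_right _ (Ideal.Quotient.eq_zero_iff_mem.2 (Ideal.mem_span_singleton_self Qx))
  let j : L →+* R ⧸ Ideal.span {Qx} := IsLocalization.lift (M := Q.primeCompl) (g := j0) fun s => by
    obtain ⟨p, hp⟩ := Ideal.Quotient.mk_surjective s.1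
    have hp' : p ∈ (org A N).primeCompl := fun h => s.2 (hp ▸ (hmemO p).2 h)
    rw [← hp]
    exact ((IsLocalization.map_units (Loc A N) (⟨p, hp'⟩ : (org A N).primeCompl)).map
      (algebraMap (Loc A N) R)).map π
  let ψ : R ⧸ Ideal.span {Qx} →+* C := Ideal.Quotient.lift _ g fun z hz => by
    obtain ⟨a, rfl⟩ := Ideal.mem_span_singleton'.1 hz
    rw [map_mul, hgQ, mul_zero]
  haveI : IsLocalHom ψ := ⟨fun z hz => by
    obtain ⟨r, rfl⟩ := Ideal.Quotient.mk_surjective z
    exact (isUnit_of_map_unit g r hz).map π⟩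
  have hψ : ψ.comp j = algebraMap L C := by
    refine IsLocalization.ringHom_ext Q.primeCompl (RingHom.ext fun z => ?_)
    obtain ⟨p, rfl⟩ := Ideal.Quotient.mk_surjective z
    show ψ (j (algebraMap ((MvPolynomial (Fin N) A ⧸ Ideal.span {p₀})) L _)) = _
    rw [IsLocalization.lift_eq]
    exact RingHom.congr_fun hg p
  have hb' := Henz21.bijective_of_henselization (R := L) (S := C) j ψ hψ fun h hl hh => by
    refine Ideal.Quotient.ringHom_ext (hom_ext _ _ (fun a => ?_) fun i => ?_)
    · have := RingHom.congr_fun hh (algebraMap ((MvPolynomial (Fin N) A ⧸ Ideal.span {p₀})) L (Ideal.Quotient.mk _ (MvPolynomial.C a)))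
      rw [RingHom.comp_apply, IsLocalization.lift_eq] at this
      exact this
    · have := RingHom.congr_fun hh (algebraMap ((MvPolynomial (Fin N) A ⧸ Ideal.span {p₀})) L (Ideal.Quotient.mk _ (MvPolynomial.X i)))
      rw [RingHom.comp_apply, IsLocalization.lift_eq] at this
      exact this
  refine ⟨g, fun z => ?_, le_antisymm (fun z hz => ?_) ((Ideal.span_singleton_le_iff_mem _).2 hgQ), fun c => ?_⟩
  · obtain ⟨w, hw⟩ := hb'.2 z
    obtain ⟨r, rfl⟩ := Ideal.Quotient.mk_surjective w
    exact ⟨r, hw⟩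
  · exact Ideal.Quotient.eq_zero_iff_mem.1 (hb'.1 ((show ψ (π z) = 0 from hz).trans (map_zero ψ).symm))
  · rw [show g (κ A N c) = fC (MvPolynomial.C c) from RingHom.congr_fun hg _]
    show algebraMap L C _ = algebraMap L C _
    rw [IsScalarTower.algebraMap_apply A ((MvPolynomial (Fin N) A ⧸ Ideal.span {p₀})) L]
    rfl

end Groth.Agent.An92.MorseD
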