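import Groth.Agent.An92.MorseA.Center
import Groth.Agent.An92.MorseD.Finite
import Groth.Agent.S13598
import Mathlib.RingTheory.Finiteness.Nakayama

/-! Weierstrass preparation in degree two on the henselized affine line. -/

set_option autoImplicit false
set_option linter.style.haveILetI false

universe u

open IsLocalRing

namespace Groth.Agent.An92.MorseD

open MorseA

variable (A : Type u) [CommRing A] [HenselianLocalRing A]

local notation "R" => HA A 1
local notation "x₀" => xv A 1 0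

theorem maximalIdeal_eq_one :
    maximalIdeal R = (maximalIdeal A).map (κ A 1) ⊔ Ideal.span {x₀} := by
  rw [MorseA.maximalIdeal_eq, show Set.range (xv A 1) = {x₀} from Set.range_unique]

theorem cube_le : maximalIdeal R ^ 3 ≤ (maximalIdeal A).map (κ A 1) ⊔ Ideal.span {x₀ ^ 3} := by
  rw [maximalIdeal_eq_one, ← Ideal.span_singleton_pow]
  let I : Ideal (HA A 1) := (maximalIdeal A).map (κ A 1)
  let π := Ideal.Quotient.mk I
  refine Ideal.le_comap_map.trans (le_of_eq ((congrArg (Ideal.comap π) (?_ : _ = (Ideal.span {x₀} ^ 3).map π)).trans ?_))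
  · rw [Ideal.map_pow, Ideal.map_pow, Ideal.map_sup, Ideal.map_quotient_self, bot_sup_eq]
  · rw [Ideal.comap_map_of_surjective _ Ideal.Quotient.mk_surjective, ← RingHom.ker_eq_comap_bot, Ideal.mk_ker, sup_comm]

/-- Expansion to second order. -/
theorem exists_expand_two (t : R) : ∃ (a a' : A) (r : R), t = κ A 1 a + κ A 1 a' * x₀ + x₀ ^ 2 * r := by
  obtain ⟨a, r, hr⟩ := exists_expand A 1 t
  obtain ⟨a', r', hr'⟩ := exists_expand A 1 (r 0)
  refine ⟨a, a', r' 0, ?_⟩
  rw [hr, Fin.sum_univ_one, hr', Fin.sum_univ_one]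
  ring

theorem sq_mem (b : R) (hb : b - x₀ ^ 2 ∈ (maximalIdeal A).map (κ A 1) ⊔ maximalIdeal R ^ 3) :
    x₀ ^ 2 ∈ (maximalIdeal A).map (κ A 1) ⊔ Ideal.span {b} := by
  obtain ⟨μ, hμ, z, hz, e⟩ := Submodule.mem_sup.1 (sup_le le_sup_left (cube_le A) hb)
  obtain ⟨s, rfl⟩ := Ideal.mem_span_singleton'.1 hz
  have hu : IsUnit (1 + s * x₀) := by
    refine IsLocalRing.notMem_maximalIdeal.1 fun h => (maximalIdeal.isMaximal R).ne_top
      ((Ideal.eq_top_iff_one _).2 ?_)
    simpa using (maximalIdeal R).sub_mem h (Ideal.mul_mem_left _ s (xv_mem A 1 0))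
  refine (Ideal.mul_unit_mem_iff_mem _ hu).1 ?_
  rw [show x₀ ^ 2 * (1 + s * x₀) = -μ + b by linear_combination e]
  exact Submodule.add_mem_sup (neg_mem hμ) (Ideal.mem_span_singleton_self b)

theorem finite_of_two {A M : Type u} [CommRing A] [CommRing M] [Algebra A M] (x : M)
    (h : ∀ z, ∃ c c' : A, z = algebraMap A M c + algebraMap A M c' * x) : Module.Finite A M := by
  classical
  refine ⟨⟨{1, x}, top_le_iff.1 fun z _ => ?_⟩⟩
  obtain ⟨c, c', rfl⟩ := h z
  rw [← Algebra.smul_def, Algebra.algebraMap_eq_smul_one]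
  exact add_mem (Submodule.smul_mem _ _ (Submodule.subset_span (by simp)))
    (Submodule.smul_mem _ _ (Submodule.subset_span (by simp)))

/-- Finiteness of the quotient of a henselization by an element whose fibre is spanned by `1` and `x`. -/
theorem finite_quot {A W H : Type u} [CommRing A] [HenselianLocalRing A] [CommRing W] [IsLocalRing W] [CommRing H]
    [IsLocalRing H] [Algebra A W] [Algebra A H] [Algebra W H] [IsScalarTower A W H]
    [IsLocalHom (algebraMap A W)] [IsLocalHom (algebraMap W H)] [Algebra.EssFiniteType A W]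
    [Hensel.IsHenselization W H] (bW : W) (hb : bW ∈ maximalIdeal W) (x : W)
    (hmem : ∀ w : W, ∃ c c' : A,
      w - algebraMap A W c - algebraMap A W c' * x ∈ (maximalIdeal A).map (algebraMap A W) ⊔ Ideal.span {bW}) :
    Module.Finite A (H ⧸ (Ideal.span {bW}).map (algebraMap W H)) := by
  have hJ : Ideal.span {bW} ≤ maximalIdeal W := (Ideal.span_singleton_le_iff_mem _).2 hb
  have hJH : (Ideal.span {bW}).map (algebraMap W H) ≤ maximalIdeal H :=
    (Ideal.map_mono hJ).trans (((local_hom_TFAE (algebraMap W H)).out 0 2).mp ‹_›)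
  let πW : W →+* W ⧸ Ideal.span {bW} := Ideal.Quotient.mk _
  let πH : H →+* H ⧸ (Ideal.span {bW}).map (algebraMap W H) := Ideal.Quotient.mk _
  haveI : Nontrivial (W ⧸ Ideal.span {bW}) := Ideal.Quotient.nontrivial_iff.2 fun h =>
    (maximalIdeal.isMaximal W).ne_top (top_le_iff.1 (h ▸ hJ))
  haveI : IsLocalRing (W ⧸ Ideal.span {bW}) := IsLocalRing.of_surjective' πW Ideal.Quotient.mk_surjective
  haveI : Nontrivial (H ⧸ (Ideal.span {bW}).map (algebraMap W H)) := Ideal.Quotient.nontrivial_iff.2 fun h =>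
    (maximalIdeal.isMaximal H).ne_top (top_le_iff.1 (h ▸ hJH))
  haveI : IsLocalRing (H ⧸ (Ideal.span {bW}).map (algebraMap W H)) :=
    IsLocalRing.of_surjective' πH Ideal.Quotient.mk_surjective
  haveI : IsLocalHom πW := IsLocalHom.of_surjective _ Ideal.Quotient.mk_surjective
  haveI : IsLocalHom πH := IsLocalHom.of_surjective _ Ideal.Quotient.mk_surjective
  haveI : IsLocalHom (algebraMap (W ⧸ Ideal.span {bW}) (H ⧸ (Ideal.span {bW}).map (algebraMap W H))) := by
    refine ⟨fun z hz => ?_⟩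
    obtain ⟨z, rfl⟩ := Ideal.Quotient.mk_surjective z
    exact (isUnit_of_map_unit (algebraMap W H) z (isUnit_of_map_unit πH _ hz)).map πW
  haveI : Hensel.IsHenselization (W ⧸ Ideal.span {bW}) (H ⧸ (Ideal.span {bW}).map (algebraMap W H)) :=
    S13598.result _ hJ
  haveI : IsLocalHom (algebraMap A (W ⧸ Ideal.span {bW})) := RingHom.isLocalHom_comp πW (algebraMap A W)
  haveI : Algebra.EssFiniteType W (W ⧸ Ideal.span {bW}) := inferInstance
  haveI : Algebra.EssFiniteType A (W ⧸ Ideal.span {bW}) := Algebra.EssFiniteType.comp A W _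
  haveI : IsScalarTower A (W ⧸ Ideal.span {bW}) (H ⧸ (Ideal.span {bW}).map (algebraMap W H)) :=
    IsScalarTower.of_algebraMap_eq fun c => congrArg πH (IsScalarTower.algebraMap_apply A W H c)
  let mO : Ideal (W ⧸ Ideal.span {bW}) := (maximalIdeal A).map (algebraMap A (W ⧸ Ideal.span {bW}))
  haveI hfin : Module.Finite A ((W ⧸ Ideal.span {bW}) ⧸ mO) := by
    refine finite_of_two (Ideal.Quotient.mk mO (πW x)) fun z => ?_
    obtain ⟨z, rfl⟩ := Ideal.Quotient.mk_surjective z
    obtain ⟨w, rfl⟩ := Ideal.Quotient.mk_surjective z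
    obtain ⟨c, c', hcc⟩ := hmem w
    refine ⟨c, c', ?_⟩
    have h2 : πW (w - algebraMap A W c - algebraMap A W c' * x) ∈ mO := by
      have h3 := Ideal.mem_map_of_mem πW hcc
      rw [Ideal.map_sup, Ideal.map_map, Ideal.map_quotient_self, sup_bot_eq] at h3
      exact h3
    have h4 := Ideal.Quotient.eq_zero_iff_mem.2 h2
    rw [map_sub, map_sub, map_sub, map_sub, map_mul, map_mul, sub_sub, sub_eq_zero] at h4
    exact h4
  exact finite_henselization (O := W ⧸ Ideal.span {bW}) (hfin := hfin)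

/-- The quotient by `b` is spanned by `1` and the coordinate. -/
theorem exists_rel (b : R) (hb : b - x₀ ^ 2 ∈ (maximalIdeal A).map (κ A 1) ⊔ maximalIdeal R ^ 3) :
    ∃ a a' : A, x₀ ^ 2 - κ A 1 a - κ A 1 a' * x₀ ∈ Ideal.span {b} := by
  classical
  let L := Loc A 1
  obtain ⟨i, hi⟩ := Hensel20.exists_stage («R» := L) (K := ResidueField L) (Finset.univ : Finset Unit) fun _ => b
  obtain ⟨bW, hbW⟩ := hi () (Finset.mem_univ _)
  let W := Hensel20.Stage i
  let H : Type u := R
  haveI hWH : Hensel.IsHenselization W H := Morse.isHenselization_stage i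
  haveI : Module.FaithfullyFlat W H := Hensel20.stage_faithfullyFlat i
  haveI := Hensel20.stage_isLocalHom i
  letI algAW : Algebra A W :=
    ((algebraMap L W).comp ((algebraMap (MvPolynomial (Fin 1) A) L).comp MvPolynomial.C)).toAlgebra
  let xW : W := algebraMap L W (algebraMap (MvPolynomial (Fin 1) A) L (MvPolynomial.X 0))
  have hcA : ∀ c : A, algebraMap W H (algebraMap A W c) = κ A 1 c := fun c =>
    (IsScalarTower.algebraMap_apply L W H _).symm
  have hxW : algebraMap W H xW = x₀ := (IsScalarTower.algebraMap_apply L W H _).symm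
  letI : Algebra A H := (κ A 1).toAlgebra
  haveI : IsScalarTower A W H := IsScalarTower.of_algebraMap_eq fun c => (hcA c).symm
  haveI : Algebra.EssFiniteType A W := by
    haveI : Algebra.EssFiniteType L W := Hensel20.stage_essFiniteType i
    haveI : Algebra.EssFiniteType A L := Algebra.EssFiniteType.comp A (MvPolynomial (Fin 1) A) L
    haveI : IsScalarTower A L W := IsScalarTower.of_algebraMap_eq fun c => by
      show algebraMap L W _ = algebraMap L W _
      rw [IsScalarTower.algebraMap_apply A (MvPolynomial (Fin 1) A) L]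
      rfl
    exact Algebra.EssFiniteType.comp A L W
  have hbmax : b ∈ maximalIdeal R := by
    have hle : (maximalIdeal A).map (κ A 1) ⊔ maximalIdeal R ^ 3 ≤ maximalIdeal R :=
      sup_le (Ideal.map_le_iff_le_comap.2 fun c hc => κ_mem A 1 hc) (Ideal.pow_le_self three_ne_zero)
    have h1 : b - x₀ ^ 2 ∈ maximalIdeal R := hle hb
    simpa using add_mem h1 (Ideal.pow_mem_of_mem _ (xv_mem A 1 0) 2 two_pos)
  let J : Ideal W := Ideal.span {bW}
  have hJ : J ≤ maximalIdeal W := (Ideal.span_singleton_le_iff_mem _).2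
    ((mem_maximalIdeal _).2 fun hu => (mem_maximalIdeal _).1 hbmax (hbW ▸ hu.map _))
  let JH : Ideal H := J.map (algebraMap W H)
  have hJH : JH = Ideal.span {b} := by
    show Ideal.map _ (Ideal.span {bW}) = _
    rw [Ideal.map_span, Set.image_singleton]
    exact congrArg (fun z => Ideal.span {z}) hbW
  let T := H ⧸ JH
  let πH : H →+* T := Ideal.Quotient.mk JH
  haveI : Nontrivial T := Ideal.Quotient.nontrivial_iff.2 fun h =>
    (maximalIdeal.isMaximal H).ne_top (top_le_iff.1 (h ▸ hJH ▸ (Ideal.span_singleton_le_iff_mem _).2 hbmax))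
  haveI : IsLocalRing T := IsLocalRing.of_surjective' πH Ideal.Quotient.mk_surjective
  haveI : IsLocalHom (algebraMap A W) := ⟨fun c hc => by
    by_contra hn
    exact (mem_maximalIdeal _).1 (κ_mem A 1 ((mem_maximalIdeal c).2 hn)) (hcA c ▸ hc.map _)⟩
  -- the fibre of `O` is spanned by `1` and the coordinate
  have hmem : ∀ w : W, ∃ c c' : A,
      w - algebraMap A W c - algebraMap A W c' * xW ∈ (maximalIdeal A).map (algebraMap A W) ⊔ J := fun w => by
    obtain ⟨c, c', r, hr⟩ := exists_expand_two A (algebraMap W H w)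
    refine ⟨c, c', ?_⟩
    rw [← Ideal.comap_map_eq_self_of_faithfullyFlat (B := H) ((maximalIdeal A).map (algebraMap A W) ⊔ J),
      Ideal.mem_comap, Ideal.map_sup, Ideal.map_map, ← IsScalarTower.algebraMap_eq,
      show J.map (algebraMap W H) = Ideal.span {b} from hJH]
    rw [map_sub, map_sub, map_mul, hcA, hcA, hxW, hr]
    rw [show κ A 1 c + κ A 1 c' * x₀ + x₀ ^ 2 * r - κ A 1 c - κ A 1 c' * x₀ = r * x₀ ^ 2 by ring]
    exact Ideal.mul_mem_left _ _ (sq_mem A b hb)
  haveI hT : Module.Finite A T := finite_quot bW (hJ (Ideal.mem_span_singleton_self bW)) xW hmem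
  let V : Submodule A T := Submodule.span A {1, πH x₀}
  have hV : (⊤ : Submodule A T) ≤ V := by
    refine Submodule.le_of_le_smul_of_le_jacobson_bot Module.Finite.fg_top (maximalIdeal_le_jacobson _)
      fun t _ => ?_
    obtain ⟨t, rfl⟩ := Ideal.Quotient.mk_surjective t
    obtain ⟨c, c', r, rfl⟩ := exists_expand_two A t
    rw [Ideal.smul_top_eq_map]
    refine Submodule.mem_sup.2 ⟨πH (κ A 1 c + κ A 1 c' * x₀), ?_, πH (x₀ ^ 2 * r), ?_, (map_add _ _ _).symm⟩
    · rw [map_add, map_mul, ← mul_one (πH (κ A 1 c))]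
      refine add_mem ?_ ?_
      · exact (Algebra.smul_def c (1 : T)) ▸ V.smul_mem c (Submodule.subset_span (Set.mem_insert _ _))
      · exact (Algebra.smul_def c' (πH x₀)) ▸ V.smul_mem c' (Submodule.subset_span (Set.mem_insert_of_mem _ rfl))
    · show πH (x₀ ^ 2 * r) ∈ (maximalIdeal A).map (algebraMap A T)
      rw [map_mul]
      refine Ideal.mul_mem_right _ _ ?_
      have h2 := Ideal.mem_map_of_mem πH (sq_mem A b hb)
      rw [Ideal.map_sup, Ideal.map_map, ← hJH, Ideal.map_quotient_self, sup_bot_eq] at h2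
      exact h2
  obtain ⟨a, a', haa⟩ := Submodule.mem_span_pair.1 (hV (Submodule.mem_top (x := πH (x₀ ^ 2))))
  refine ⟨a, a', hJH ▸ Ideal.Quotient.eq_zero_iff_mem.1 (?_ : πH _ = 0)⟩
  rw [map_sub, map_sub, map_mul, ← haa, Algebra.smul_def, Algebra.smul_def, mul_one,
    show algebraMap A T a = πH (κ A 1 a) from rfl, show algebraMap A T a' = πH (κ A 1 a') from rfl]
  ring

open MvPowerSeries in
/-- Weierstrass preparation in degree two. -/
theorem exists_weierstrass (b : R) (hb : b - x₀ ^ 2 ∈ (maximalIdeal A).map (κ A 1) ⊔ maximalIdeal R ^ 3) :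
    ∃ (β γ : A) (u : R), β ∈ maximalIdeal A ∧ γ ∈ maximalIdeal A ∧ u - 1 ∈ maximalIdeal R ∧
      b = u * (x₀ ^ 2 + κ A 1 β * x₀ + κ A 1 γ) := by
  classical
  obtain ⟨a, a', haa⟩ := exists_rel A b hb
  obtain ⟨v, hv⟩ := Ideal.mem_span_singleton'.1 haa
  obtain ⟨ρ, hρs, hρl, hρk, hρC, hρX⟩ := exists_fibre A 1
  obtain ⟨σ, hσ, hσm, -⟩ := Morse.exists_toPS (ResidueField A) 1
  let P := MvPowerSeries (Fin 1) (ResidueField A)
  let χ : HA A 1 →+* P := σ.comp ρ
  have hχC : ∀ c, χ (κ A 1 c) = C (residue A c) := fun c => by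
    show σ (ρ _) = _
    rw [hρC, hσ, MvPolynomial.coe_C]
  have hχX : χ x₀ = X 0 := by
    show σ (ρ _) = _
    rw [hρX, hσ, MvPolynomial.coe_X]
  haveI := hρl
  have hχm : ∀ (j : ℕ) z, z ∈ maximalIdeal R ^ j → χ z ∈ maximalIdeal P ^ j := fun j z hz => by
    refine (hσm j _).2 ?_
    rw [← Morse.map_maximalIdeal_of_surjective ρ hρs, ← Ideal.map_pow]
    exact Ideal.mem_map_of_mem ρ hz
  have h3 : χ b - X 0 ^ 2 ∈ maximalIdeal P ^ 3 := by
    rw [← hχX, ← map_pow, ← map_sub]
    obtain ⟨μ, hμ, z, hz, e⟩ := Submodule.mem_sup.1 hb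
    rw [← e, map_add, show χ μ = 0 from (congrArg σ (hρk.ge hμ)).trans (map_zero σ), zero_add]
    exact hχm 3 z hz
  have heq : X 0 ^ 2 - C (residue A a) - C (residue A a') * X 0 = χ v * χ b := by
    rw [← hχX, ← hχC, ← hχC, ← map_pow, ← map_mul, ← map_mul, ← map_sub, ← map_sub, hv]
  have hz : C (residue A a) + C (residue A a') * X 0 =
      (X 0 ^ 2 : P) * (1 - χ v) - χ v * (χ b - X 0 ^ 2) := by linear_combination -heq
  have hmem : χ v * (χ b - X 0 ^ 2) ∈ maximalIdeal P ^ 3 := Ideal.mul_mem_left _ _ h3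
  have hc : ∀ d : Fin 1 →₀ ℕ, d.degree < 3 → coeff d (C (residue A a) + C (residue A a') * X 0) =
      coeff d ((X 0 ^ 2 : P) * (1 - χ v)) := fun d hd => by
    rw [hz, map_sub, QS97.ordGE_of_mem_pow 3 hmem d hd, sub_zero]
  have hX2 : (X 0 : P) ^ 2 = monomial (Finsupp.single (0 : Fin 1) 2) 1 := X_pow_eq _ _
  have e0 : residue A a = 0 := by
    have := hc 0 (by simp)
    rw [hX2, coeff_monomial_mul, if_neg (by simp [Finsupp.le_def])] at this
    simpa using this
  have e1 : residue A a' = 0 := by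
    have := hc (Finsupp.single 0 1) (by simp)
    rw [hX2, coeff_monomial_mul, if_neg (by simp [Finsupp.le_def])] at this
    simpa [e0, coeff_C_mul, coeff_X] using this
  have e2 : constantCoeff (χ v) = 1 := by
    have := hc (Finsupp.single 0 2) (by simp)
    rw [hX2, coeff_monomial_mul, if_pos le_rfl, tsub_self, e0, e1] at this
    simp only [map_zero, zero_mul, add_zero, one_mul, map_sub, map_one, coeff_zero_eq_constantCoeff_apply] at this
    exact (sub_eq_zero.1 this.symm).symm
  have hv1 : v - 1 ∈ maximalIdeal R := by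
    have h1 : χ (v - 1) ∈ maximalIdeal P := CAlg6.mem_maximalIdeal_iff.2 (by simp [map_sub, e2])
    rw [← pow_one (maximalIdeal P)] at h1
    have h2 := (hσm 1 _).1 h1
    rw [pow_one] at h2
    exact (mem_maximalIdeal _).2 fun hu => (mem_maximalIdeal _).1 h2 (hu.map ρ)
  have hvu : IsUnit v := IsLocalRing.notMem_maximalIdeal.1 fun h =>
    (maximalIdeal.isMaximal R).ne_top ((Ideal.eq_top_iff_one _).2 (by simpa using sub_mem h hv1))
  refine ⟨-a', -a, ↑hvu.unit⁻¹, neg_mem ((residue_eq_zero_iff a').1 e1), neg_mem ((residue_eq_zero_iff a).1 e0), ?_, ?_⟩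
  · have : (↑hvu.unit⁻¹ : R) - 1 = -(↑hvu.unit⁻¹) * (v - 1) := by
      linear_combination hvu.val_inv_mul
    rw [this]
    exact Ideal.mul_mem_left _ _ hv1
  · rw [map_neg, map_neg]
    linear_combination (↑hvu.unit⁻¹ : R) * hv - b * hvu.val_inv_mul

end Groth.Agent.An92.MorseD
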