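import Groth.Agent.An92.MorseA.Normal

/-! Splitting off one variable. -/

set_option autoImplicit false
set_option linter.style.haveILetI false

universe u

open IsLocalRing

namespace Groth.Agent.An92.MorseD

open MorseA

variable (A : Type u) [CommRing A] [HenselianLocalRing A] (M : ℕ)

/-- `HA A (M+1)` is the henselized affine `M`-space over the henselized line. -/
theorem exists_split : ∃ e : HA A (M + 1) ≃+* HA (HA A 1) M,
    (∀ a, e (κ A (M + 1) a) = κ (HA A 1) M (κ A 1 a)) ∧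
      e (xv A (M + 1) 0) = κ (HA A 1) M (xv A 1 0) ∧
      ∀ i : Fin M, e (xv A (M + 1) i.succ) = xv (HA A 1) M i := by
  let A₁ := HA A 1
  let R := HA A (M + 1)
  let S := HA A₁ M
  haveI : HenselianLocalRing R := inferInstance
  haveI : HenselianLocalRing S := inferInstance
  haveI hA₁ : HenselianLocalRing A₁ := inferInstance
  haveI : IsLocalHom ((κ A₁ M).comp (κ A 1)) := ⟨fun a ha => by
    by_contra hn
    exact (mem_maximalIdeal _).1 (κ_mem A₁ M (κ_mem A 1 ((mem_maximalIdeal a).2 hn))) ha⟩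
  obtain ⟨e, hel, heC, heX⟩ := exists_hom (A := A) (T := S) ((κ A₁ M).comp (κ A 1))
    (Fin.cons (κ A₁ M (xv A 1 0)) (xv A₁ M)) (Fin.cases (κ_mem A₁ M (xv_mem A 1 0)) (xv_mem A₁ M))
  haveI : IsLocalHom (κ A (M + 1)) := ⟨fun a ha => by
    by_contra hn
    exact (mem_maximalIdeal _).1 (κ_mem A (M + 1) ((mem_maximalIdeal a).2 hn)) ha⟩
  obtain ⟨f₁, hf₁l, hf₁C, hf₁X⟩ := exists_hom (A := A) (T := R) (κ A (M + 1)) (fun _ : Fin 1 => xv A (M + 1) 0)
    fun _ => xv_mem A (M + 1) 0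
  haveI := hf₁l
  obtain ⟨f, hfl, hfC, hfX⟩ := exists_hom (A := A₁) (T := R) f₁ (fun i : Fin M => xv A (M + 1) i.succ)
    fun i => xv_mem A (M + 1) _
  haveI := hel
  haveI := hfl
  have he0 : e (xv A (M + 1) 0) = κ A₁ M (xv A 1 0) := by rw [heX]; rfl
  have heS : ∀ i : Fin M, e (xv A (M + 1) i.succ) = xv A₁ M i := fun i => by rw [heX, Fin.cons_succ]
  haveI : IsLocalHom (RingHom.id R) := ⟨fun _ h => h⟩
  haveI : IsLocalHom (RingHom.id S) := ⟨fun _ h => h⟩
  have h1 : f.comp e = RingHom.id R := hom_ext _ _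
    (fun a => (congrArg f (heC a)).trans ((hfC _).trans (hf₁C a)))
    (Fin.cases ((congrArg f he0).trans ((hfC _).trans (hf₁X 0)))
      fun i => (congrArg f (heS i)).trans (hfX i))
  have hκ : IsLocalHom (κ A₁ M) := ⟨fun a ha => by
    by_contra hn
    exact (mem_maximalIdeal _).1 (κ_mem A₁ M ((mem_maximalIdeal a).2 hn)) ha⟩
  have h0 : (e.comp f).comp (κ A₁ M) = κ A₁ M := by
    haveI := hκ
    refine hom_ext _ _ (fun a => ?_) fun i => ?_
    · show e (f (κ A₁ M (κ A 1 a))) = _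
      rw [hfC, hf₁C, heC]; rfl
    · show e (f (κ A₁ M (xv A 1 i))) = _
      rw [hfC, hf₁X, he0, Fin.fin_one_eq_zero i]
  have h2 : e.comp f = RingHom.id S := hom_ext _ _ (fun a => RingHom.congr_fun h0 a)
    fun i => (congrArg e (hfX i)).trans (heS i)
  exact ⟨RingEquiv.ofRingHom e f h2 h1, heC, he0, heS⟩

end Groth.Agent.An92.MorseD
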