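import Groth.Agent.An92.MorseA.Present
import Groth.Agent.An92.MorseD.Form
import Groth.Agent.An92.MorseD.Split
import Groth.Agent.An92.MorseD.Quad1
import Groth.Agent.An92.MorseD.Model

/-! Degenerate ordinary quadratic points in residue characteristic two. -/

set_option autoImplicit false
set_option linter.style.haveILetI false

universe u

open IsLocalRing Matrix

namespace Groth.Agent.An92.MorseD

open MorseA

/-- The inverse of a unit generating a principal ideal changes nothing. -/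
theorem span_map_eq {R : Type u} [CommRing R] (Θ : R ≃+* R) {F p u : R} (hu : IsUnit u) (h : Θ F = u * p) :
    Ideal.span {p} = (Ideal.span {F}).map Θ.toRingHom := by
  rw [Ideal.map_span, Set.image_singleton]
  show _ = Ideal.span {Θ F}
  rw [h, Ideal.span_singleton_mul_left_unit hu]

theorem ker_comp_equiv {R T : Type u} [CommRing R] [CommRing T] (φ : R →+* T) (Θ : R ≃+* R) :
    RingHom.ker (φ.comp Θ.symm.toRingHom) = (RingHom.ker φ).map Θ.toRingHom := by
  rw [← RingHom.comap_ker]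
  exact (Ideal.map_comap_of_equiv Θ).symm

/-- An equivalence compatible with scalars preserves congruences modulo the scalars and the cube. -/
theorem mem_transport {A R S : Type u} [CommRing A] [IsLocalRing A] [CommRing R] [IsLocalRing R] [CommRing S]
    [IsLocalRing S] (e : R ≃+* S) (κR : A →+* R) (κS : A →+* S) (h : ∀ a, e (κR a) = κS a) {x : R}
    (hx : x ∈ (maximalIdeal A).map κR ⊔ maximalIdeal R ^ 3) :
    e x ∈ (maximalIdeal A).map κS ⊔ maximalIdeal S ^ 3 := by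
  have h2 := Ideal.mem_map_of_mem e.toRingHom hx
  rwa [Ideal.map_sup, Ideal.map_map, Ideal.map_pow, show e.toRingHom.comp κR = κS from RingHom.ext h,
    show (maximalIdeal R).map e.toRingHom = maximalIdeal S from map_ringEquiv_maximalIdeal e] at h2

/-- Linear changes of coordinates are automorphisms. -/
theorem exists_linear (A : Type u) [CommRing A] [HenselianLocalRing A] (N : ℕ)
    (M : Matrix (Fin N) (Fin N) (HA A N)) (hM : IsUnit M.det) :
    ∃ e : HA A N ≃+* HA A N, (∀ a, e (κ A N a) = κ A N a) ∧ ∀ i, e (xv A N i) = (M *ᵥ xv A N) i := by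
  classical
  have hy : ∀ i, (M *ᵥ xv A N) i ∈ maximalIdeal (HA A N) := fun i => by
    show ∑ j, M i j * xv A N j ∈ _
    exact sum_mem fun j _ => Ideal.mul_mem_left _ _ (xv_mem A N j)
  have hgen : maximalIdeal (HA A N) ≤ (maximalIdeal A).map (κ A N) ⊔ Ideal.span (Set.range (M *ᵥ xv A N)) := by
    refine le_of_eq_of_le (MorseA.maximalIdeal_eq A N) (sup_le le_sup_left (Ideal.span_le.2 ?_))
    rintro _ ⟨a, rfl⟩
    have hx : xv A N a = ∑ b, M⁻¹ a b * (M *ᵥ xv A N) b := by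
      show _ = (M⁻¹ *ᵥ (M *ᵥ xv A N)) a
      rw [Matrix.mulVec_mulVec, Matrix.nonsing_inv_mul _ hM, Matrix.one_mulVec]
    rw [hx]
    exact Ideal.mem_sup_right (sum_mem fun b _ => Ideal.mul_mem_left (Ideal.span (Set.range (M *ᵥ xv A N)))
      (M⁻¹ a b) (Ideal.subset_span (Set.mem_range_self b)))
  obtain ⟨g, -, hg, hgC, hgX⟩ := exists_bijective_endo A N _ hy hgen
  exact ⟨RingEquiv.ofBijective g hg, hgC, hgX⟩

/-- Ordinarity transported along a similitude. -/
theorem quadOrd_of_rel {K : Type u} [Field K] {N : ℕ} {q q' : Fin N → Fin N → K} {L : Matrix (Fin N) (Fin N) K}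
    {v₀ : K} (hL : IsUnit L.det) (hv : v₀ ≠ 0) (h : VanCyc.QuadOrd q')
    (hQ : ∀ x, VanCyc.quadEval q (L *ᵥ x) = v₀ * VanCyc.quadEval q' x)
    (hP : Lᵀ * VanCyc.polarMatrix q * L = v₀ • VanCyc.polarMatrix q') : VanCyc.QuadOrd q := fun v h1 h2 => by
  have hx : L *ᵥ (L⁻¹ *ᵥ v) = v := by
    rw [Matrix.mulVec_mulVec, Matrix.mul_nonsing_inv _ hL, Matrix.one_mulVec]
  have h3 := h (L⁻¹ *ᵥ v) ?_ ?_
  · rw [← hx, h3, Matrix.mulVec_zero]
  · have := hQ (L⁻¹ *ᵥ v)
    rw [hx, h1] at this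
    exact (mul_eq_zero.1 this.symm).resolve_left hv
  · have := congrArg (· *ᵥ (L⁻¹ *ᵥ v)) hP
    simp only [← Matrix.mulVec_mulVec, hx, h2, Matrix.mulVec_zero, Matrix.smul_mulVec] at this
    exact (smul_eq_zero.1 this.symm).resolve_left hv

section

variable (A : Type u) [CommRing A] [HenselianLocalRing A] {m : ℕ}

/-- An element congruent to `1` is a unit. -/
theorem isUnit_of_sub_one_mem {R : Type u} [CommRing R] [IsLocalRing R] {u : R} (h : u - 1 ∈ maximalIdeal R) :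
    IsUnit u :=
  IsLocalRing.notMem_maximalIdeal.1 fun hu =>
    (maximalIdeal.isMaximal R).ne_top ((Ideal.eq_top_iff_one _).2 (by simpa using sub_mem hu h))

/-- The model polynomial in the henselization. -/
theorem ι_degQuadPoly (a' : Fin (2 * m) → Fin (2 * m) → A) (β γ : A) :
    ι A (2 * m + 1) (VanCyc.degQuadPoly A a' β γ) =
      xv A (2 * m + 1) 0 ^ 2 + κ A (2 * m + 1) β * xv A (2 * m + 1) 0 + κ A (2 * m + 1) γ +
        VanCyc.quadEval (fun i j => κ A (2 * m + 1) (a' i j)) (fun i => xv A (2 * m + 1) i.succ) := by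
  rw [VanCyc.degQuadPoly, map_add, map_add, map_add, map_mul, map_pow, QS97.quadPoly_eq_quadEval,
    QS97.map_quadEval, QS97.map_quadEval]
  simp only [MvPolynomial.rename_C, MvPolynomial.rename_X]
  rfl

/-- The Morse lemma followed by absorbing the unit of a factorisation of the critical value. -/
theorem exists_absorb (A₁ : Type u) [CommRing A₁] [HenselianLocalRing A₁] (M : ℕ) (a₁ : Fin M → Fin M → A₁)
    (ha₁ : VanCyc.QuadNondeg a₁) (aI : Ideal A₁) (haI : aI ≤ maximalIdeal A₁) (s : A₁) (hs : s ∈ maximalIdeal A₁)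
    (G : HA A₁ M)
    (hG : G - VanCyc.quadEval (fun i j => κ A₁ M (a₁ i j)) (xv A₁ M) - κ A₁ M s ∈
      aI.map (κ A₁ M) ⊔ maximalIdeal (HA A₁ M) ^ 3) (Good : A₁ → Prop)
    (hW : ∀ b, b + s ∈ aI ⊔ maximalIdeal A₁ ^ 3 → ∃ u Pr, u - 1 ∈ maximalIdeal A₁ ∧ Good Pr ∧ -b = u * Pr) :
    ∃ (Φ : HA A₁ M ≃+* HA A₁ M) (u Pr : A₁), (∀ a, Φ (κ A₁ M a) = κ A₁ M a) ∧ IsUnit u ∧ Good Pr ∧
      Φ G = κ A₁ M u * (VanCyc.quadEval (fun i j => κ A₁ M (a₁ i j)) (xv A₁ M) + κ A₁ M Pr) := by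
  classical
  obtain ⟨Φ, b, hΦ, hΦC, -, hΦF, hcrit⟩ := exists_normal' A₁ M a₁ ha₁ G (by
    have h4 := add_mem ((sup_le_sup_right (Ideal.map_mono haI) _ : aI.map (κ A₁ M) ⊔ maximalIdeal (HA A₁ M) ^ 3 ≤ _) hG)
      (Ideal.mem_sup_left (Ideal.mem_map_of_mem (κ A₁ M) hs))
    rwa [sub_add_cancel] at h4)
  obtain ⟨u, Pr, hu, hPr, hbu⟩ := hW b (hcrit aI s hG)
  have huu : IsUnit u := isUnit_of_sub_one_mem hu
  let v : HA A₁ M := κ A₁ M (↑huu.unit⁻¹)
  have hv1 : v - 1 ∈ maximalIdeal (HA A₁ M) := by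
    have : (↑huu.unit⁻¹ : A₁) - 1 ∈ maximalIdeal A₁ := by
      rw [show (↑huu.unit⁻¹ : A₁) - 1 = -(↑huu.unit⁻¹) * (u - 1) by linear_combination huu.val_inv_mul]
      exact Ideal.mul_mem_left _ _ hu
    rw [show v - 1 = κ A₁ M ((↑huu.unit⁻¹ : A₁) - 1) by rw [map_sub, map_one]]
    exact κ_mem A₁ M this
  have hqR : VanCyc.QuadNondeg fun i j => κ A₁ M (a₁ i j) := by
    have := ha₁.map (κ A₁ M)
    rw [RingHom.map_det] at this
    show IsUnit (VanCyc.polarMatrix fun i j => κ A₁ M (a₁ i j)).det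
    rw [QS97.polarMatrix_map]
    exact this
  obtain ⟨W, hW', hWx⟩ := Morse.exists_morse_nondeg (HA A₁ M) (fun i j => κ A₁ M (a₁ i j))
    (fun i j => v * κ A₁ M (a₁ i j)) (fun i j _ => by
      rw [← sub_one_mul]
      exact Ideal.mul_mem_right _ _ hv1) hqR
  obtain ⟨ψ, hψC, hψX⟩ := exists_linear A₁ M W hW'
  let Qx : HA A₁ M := VanCyc.quadEval (fun i j => κ A₁ M (a₁ i j)) (xv A₁ M)
  have hψQ : ψ Qx = v * Qx := by
    have e1 : VanCyc.quadEval (fun i j => v * κ A₁ M (a₁ i j)) (xv A₁ M) = v * Qx := by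
      simp only [Qx, VanCyc.quadEval, Finset.mul_sum]
      refine Finset.sum_congr rfl fun i _ => Finset.sum_congr rfl fun j _ => ?_
      split <;> ring
    rw [← e1, ← hWx, QS97.map_quadEval]
    exact congrArg₂ VanCyc.quadEval (funext fun i => funext fun j => hψC _) (funext fun i => hψX i)
  have hvu : κ A₁ M u * v = 1 := by
    rw [← map_mul, huu.mul_val_inv, map_one]
  have hΦe : Φ G = κ A₁ M u * ψ (Qx + κ A₁ M Pr) := by
    rw [hΦF, map_sub, map_add, hψQ, hψC]
    have e2 : ι A₁ M (VanCyc.quadPoly a₁) = Qx := by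
      rw [QS97.quadPoly_eq_quadEval, QS97.map_quadEval]
      rfl
    have e3 : ι A₁ M (MvPolynomial.C b) = κ A₁ M b := rfl
    have e4 : κ A₁ M b = -(κ A₁ M u * κ A₁ M Pr) := by
      rw [← map_mul, ← map_neg]
      congr 1
      rw [← hbu, neg_neg]
    rw [e2, e3, e4]
    linear_combination (-Qx) * hvu
  have hψsymm : ∀ a, ψ.symm (κ A₁ M a) = κ A₁ M a := fun a => by
    rw [RingEquiv.symm_apply_eq, hψC]
  refine ⟨(RingEquiv.ofBijective Φ hΦ).trans ψ.symm, u, Pr, fun a => ?_, huu, hPr, ?_⟩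
  · show ψ.symm (Φ (κ A₁ M a)) = _
    rw [hΦC, hψsymm]
  · show ψ.symm (Φ G) = _
    rw [hΦe, map_mul, RingEquiv.symm_apply_apply, hψsymm]

set_option maxHeartbeats 400000 in
/-- The normal form of a degenerate ordinary germ. -/
theorem exists_normal_deg (a' : Fin (2 * m) → Fin (2 * m) → A) (ha' : VanCyc.QuadNondeg a')
    (F : HA A (2 * m + 1))
    (hF : F - (xv A (2 * m + 1) 0 ^ 2 +
        VanCyc.quadEval (fun i j => κ A (2 * m + 1) (a' i j)) (fun i => xv A (2 * m + 1) i.succ)) ∈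
      (maximalIdeal A).map (κ A (2 * m + 1)) ⊔ maximalIdeal (HA A (2 * m + 1)) ^ 3) :
    ∃ (Θ : HA A (2 * m + 1) ≃+* HA A (2 * m + 1)) (β γ : A) (u : HA A (2 * m + 1)),
      (∀ a, Θ (κ A (2 * m + 1) a) = κ A (2 * m + 1) a) ∧ β ∈ maximalIdeal A ∧ γ ∈ maximalIdeal A ∧
      IsUnit u ∧ Θ F = u * ι A (2 * m + 1) (VanCyc.degQuadPoly A a' β γ) := by
  classical
  obtain ⟨e, heC, he0, heS⟩ := exists_split A (2 * m)
  let κ' : A →+* HA (HA A 1) (2 * m) := (κ (HA A 1) (2 * m)).comp (κ A 1)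
  let a₁ : Fin (2 * m) → Fin (2 * m) → (HA A 1) := fun i j => κ A 1 (a' i j)
  have ha₁ : VanCyc.QuadNondeg a₁ := by
    have := ha'.map (κ A 1)
    rw [RingHom.map_det] at this
    show IsUnit (VanCyc.polarMatrix fun i j => κ A 1 (a' i j)).det
    rw [QS97.polarMatrix_map]
    exact this
  have hQe : e (VanCyc.quadEval (fun i j => κ A (2 * m + 1) (a' i j)) (fun i => xv A (2 * m + 1) i.succ)) =
      VanCyc.quadEval (fun i j => κ (HA A 1) (2 * m) (a₁ i j)) (xv (HA A 1) (2 * m)) := by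
    rw [QS97.map_quadEval]
    exact congrArg₂ VanCyc.quadEval (funext fun i => funext fun j => heC _) (funext fun i => heS i)
  let aI : Ideal (HA A 1) := (maximalIdeal A).map (κ A 1)
  let s : (HA A 1) := xv A 1 0 ^ 2
  have h1 : e F - VanCyc.quadEval (fun i j => κ (HA A 1) (2 * m) (a₁ i j)) (xv (HA A 1) (2 * m)) - κ (HA A 1) (2 * m) s ∈
      aI.map (κ (HA A 1) (2 * m)) ⊔ maximalIdeal (HA (HA A 1) (2 * m)) ^ 3 := by
    have h2 := mem_transport e (κ A (2 * m + 1)) κ' heC hF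
    rw [← Ideal.map_map] at h2
    have h3 : e (F - (xv A (2 * m + 1) 0 ^ 2 + VanCyc.quadEval (fun i j => κ A (2 * m + 1) (a' i j))
        (fun i => xv A (2 * m + 1) i.succ))) =
        e F - VanCyc.quadEval (fun i j => κ (HA A 1) (2 * m) (a₁ i j)) (xv (HA A 1) (2 * m)) - κ (HA A 1) (2 * m) s := by
      simp only [map_sub, map_add, map_pow, he0, hQe, s]
      ring
    exact h3 ▸ h2
  have haI : aI ≤ maximalIdeal (HA A 1) := Ideal.map_le_iff_le_comap.2 fun a ha => κ_mem A 1 ha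
  have hs : s ∈ maximalIdeal (HA A 1) := Ideal.pow_mem_of_mem _ (xv_mem A 1 0) 2 two_pos
  obtain ⟨Φ, u, Pr, hΦC, hu, ⟨β, γ, hβ, hγ, hPr⟩, hΦF⟩ := exists_absorb (HA A 1) (2 * m) a₁ ha₁ aI haI s hs (e F) h1
    (fun z => ∃ β γ : A, β ∈ maximalIdeal A ∧ γ ∈ maximalIdeal A ∧
      z = xv A 1 0 ^ 2 + κ A 1 β * xv A 1 0 + κ A 1 γ) fun b hb => by
      obtain ⟨β, γ, u, hβ, hγ, hu, hbu⟩ := exists_weierstrass A (-b) (by
        have : -b - xv A 1 0 ^ 2 = -(b + s) := by simp only [s]; ring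
        rw [this]
        exact neg_mem hb)
      exact ⟨u, _, hu, ⟨β, γ, hβ, hγ, rfl⟩, hbu⟩
  let Θ : HA A (2 * m + 1) ≃+* HA A (2 * m + 1) := (e.trans Φ).trans e.symm
  have hu' : IsUnit (κ (HA A 1) (2 * m) u) := hu.map _
  have hu'' : IsUnit (e.symm (κ (HA A 1) (2 * m) u)) := hu'.map e.symm.toRingHom
  refine ⟨Θ, β, γ, e.symm (κ (HA A 1) (2 * m) u), fun a => ?_, hβ, hγ, hu'', ?_⟩
  · show e.symm (Φ (e (κ A (2 * m + 1) a))) = _
    rw [heC, hΦC, RingEquiv.symm_apply_eq, heC]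
  · show e.symm (Φ (e F)) = _
    have h4 : e (ι A (2 * m + 1) (VanCyc.degQuadPoly A a' β γ)) =
        VanCyc.quadEval (fun i j => κ (HA A 1) (2 * m) (a₁ i j)) (xv (HA A 1) (2 * m)) + κ (HA A 1) (2 * m) Pr := by
      rw [ι_degQuadPoly]
      simp only [map_add, map_mul, map_pow, he0, heC, hQe, hPr, κ']
      ring
    rw [hΦF, map_mul, ← h4, RingEquiv.symm_apply_apply]

variable {A}
variable {B₀ : Type u} [CommRing B₀] [Algebra A B₀] [Algebra.FinitePresentation A B₀]
  (P : Ideal B₀) [P.IsMaximal]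
  {Bh : Type u} [CommRing Bh] [IsLocalRing Bh] [Algebra (Localization.AtPrime P) Bh]
  [IsLocalHom (algebraMap (Localization.AtPrime P) Bh)] [Hensel.IsHenselization (Localization.AtPrime P) Bh]
  [Algebra A Bh] [IsScalarTower A (Localization.AtPrime P) Bh]

local notation "B" => Localization.AtPrime P

set_option maxHeartbeats 400000 in
/-- The henselization at a degenerate ordinary rational point is a model. -/
theorem exists_deg_presentation [CharP (ResidueField A) 2] (hP : (maximalIdeal A).map (algebraMap A B₀) ≤ P)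
    (hPi : ∀ y : B₀, ∃ c : A, y - algebraMap A B₀ c ∈ P) [Module.Flat A B]
    (hq : VanCyc.IsOrdQuadPt (VanCyc.fibHom A B) (2 * m)) :
    ∃ (φ : HA A (2 * m + 1) →+* Bh) (a' : Fin (2 * m) → Fin (2 * m) → A) (β γ : A),
      Function.Surjective φ ∧ (∀ a, φ (κ A (2 * m + 1) a) = algebraMap A Bh a) ∧
      VanCyc.QuadNondeg a' ∧ β ∈ maximalIdeal A ∧ γ ∈ maximalIdeal A ∧
      RingHom.ker φ = Ideal.span {ι A (2 * m + 1) (VanCyc.degQuadPoly A a' β γ)} := by
  classical
  have hres : ∀ x : B, ∃ a : A, x - algebraMap A B a ∈ maximalIdeal B := fun x => by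
    obtain ⟨b, hb⟩ := exists_sub_mem P x
    obtain ⟨c, hc⟩ := hPi b
    refine ⟨c, ?_⟩
    rw [← sub_add_sub_cancel x (algebraMap B₀ B b) (algebraMap A B c)]
    refine add_mem hb ?_
    rw [IsScalarTower.algebraMap_apply A B₀ B, ← map_sub, IsLocalization.AtPrime.to_map_mem_maximal_iff B P]
    exact hc
  let k := ResidueField A
  let K := AlgebraicClosure k
  obtain ⟨φ, q, F, hφs, hφκ, hker, hF, q', L', v₀, hord', hv₀, hL', hQ', hP'⟩ :=
    exists_presentation' (Bh := Bh) P hP hres (2 * m) VanCyc.QuadOrd (fun _ h => h) (fun M _ => hq M)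
  let q₀ : Fin (2 * m + 1) → Fin (2 * m + 1) → k := fun i j => residue A (q i j)
  obtain ⟨L₀, c₀, a₀, hL₀, hc₀, ha₀, hform⟩ := exists_deg_form K q₀ (quadOrd_of_rel hL' hv₀ hord' hQ' hP')
  choose LA hLA using fun p : Fin (2 * m + 1) × Fin (2 * m + 1) => residue_surjective (R := A) (L₀ p.1 p.2)
  choose a' ha' using fun i j => residue_surjective (R := A) (a₀ i j)
  obtain ⟨cA, hcA⟩ := residue_surjective (R := A) c₀
  let LM : Matrix (Fin (2 * m + 1)) (Fin (2 * m + 1)) A := Matrix.of fun i j => LA (i, j)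
  have hLM : LM.map (residue A) = L₀ := by ext i j; exact hLA (i, j)
  have hLMdet : IsUnit LM.det := by
    refine isUnit_of_map_unit (residue A) _ ?_
    rw [RingHom.map_det, RingHom.mapMatrix_apply, hLM]
    exact hL₀
  have hcu : IsUnit cA := isUnit_of_map_unit (residue A) _ (hcA ▸ isUnit_iff_ne_zero.2 hc₀)
  have ha'n : VanCyc.QuadNondeg a' := by
    refine isUnit_of_map_unit (residue A) _ ?_
    rw [RingHom.map_det, RingHom.mapMatrix_apply, ← QS97.polarMatrix_map,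
      show (fun i j => residue A (a' i j)) = a₀ from funext fun i => funext fun j => ha' i j]
    exact ha₀
  let R := HA A (2 * m + 1)
  let J : Ideal R := (maximalIdeal A).map (κ A (2 * m + 1)) ⊔ maximalIdeal R ^ 3
  obtain ⟨e, heC, heX⟩ := exists_linear A (2 * m + 1) (LM.map (κ A (2 * m + 1))) (by
    rw [← RingHom.mapMatrix_apply, ← RingHom.map_det]
    exact hLMdet.map _)
  let T : R := xv A (2 * m + 1) 0 ^ 2 +
    VanCyc.quadEval (fun i j => κ A (2 * m + 1) (a' i j)) (fun i => xv A (2 * m + 1) i.succ)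
  let cR : R := κ A (2 * m + 1) cA
  have hJe : ∀ {z}, z ∈ J → e z ∈ J := fun {z} hz => by
    have h2 := Ideal.mem_map_of_mem e.toRingHom hz
    rw [Ideal.map_sup, Ideal.map_map, Ideal.map_pow,
      show e.toRingHom.comp (κ A (2 * m + 1)) = κ A (2 * m + 1) from RingHom.ext heC] at h2
    rwa [show (maximalIdeal R).map e.toRingHom = maximalIdeal R from map_ringEquiv_maximalIdeal e] at h2
  have hdiff : VanCyc.quadEval (fun i j => κ A (2 * m + 1) (q i j))
      (LM.map (κ A (2 * m + 1)) *ᵥ xv A (2 * m + 1)) - cR * T ∈ J := by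
    obtain ⟨ρ, hρs, hρl, hρk, hρC, hρX⟩ := exists_fibre A (2 * m + 1)
    refine Ideal.mem_sup_left (hρk.le ?_)
    rw [RingHom.mem_ker, map_sub, sub_eq_zero]
    let f : k →+* Morse.HR k (2 * m + 1) := (Morse.ι k (2 * m + 1)).comp MvPolynomial.C
    have e1 : (fun i => ρ ((LM.map (κ A (2 * m + 1)) *ᵥ xv A (2 * m + 1)) i)) =
        L₀.map f *ᵥ fun i => ρ (xv A (2 * m + 1) i) := funext fun i => by
      rw [RingHom.map_mulVec]
      refine congrFun (congrArg (fun Z : Matrix _ _ _ => Z *ᵥ fun i => ρ (xv A (2 * m + 1) i)) ?_) i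
      ext a b
      show ρ (κ A (2 * m + 1) (LM a b)) = f (L₀ a b)
      rw [hρC, show residue A (LM a b) = L₀ a b from hLA (a, b)]
      rfl
    rw [QS97.map_quadEval, e1,
      show (fun i j => ρ (κ A (2 * m + 1) (q i j))) = fun i j => f (q₀ i j) from
        funext fun i => funext fun j => hρC _, hform _ f, map_mul, map_add, map_pow, QS97.map_quadEval,
      show ρ cR = f c₀ by rw [hρC, hcA]; rfl,
      show (fun i j => ρ (κ A (2 * m + 1) (a' i j))) = fun i j => f (a₀ i j) from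
        funext fun i => funext fun j => (hρC _).trans (by rw [ha']; rfl)]
  have heF : e F - cR * T ∈ J := by
    have h := add_mem (hJe hF) hdiff
    rwa [map_sub, QS97.map_quadEval,
      show (fun i j => e (κ A (2 * m + 1) (q i j))) = fun i j => κ A (2 * m + 1) (q i j) from
        funext fun i => funext fun j => heC _,
      show (fun i => e (xv A (2 * m + 1) i)) = LM.map (κ A (2 * m + 1)) *ᵥ xv A (2 * m + 1) from funext heX,
      sub_add_sub_cancel] at h
  let c' : R := κ A (2 * m + 1) ↑hcu.unit⁻¹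
  have hcc : c' * cR = 1 := by rw [← map_mul, hcu.val_inv_mul, map_one]
  have hG : c' * e F - T ∈ J := by
    rw [show c' * e F - T = c' * (e F - cR * T) by linear_combination T * hcc]
    exact J.mul_mem_left _ heF
  obtain ⟨Θ, β, γ, u, hΘC, hβ, hγ, hu, hΘF⟩ := exists_normal_deg A a' ha'n (c' * e F) hG
  let Ψ : R ≃+* R := e.trans Θ
  have hΨC : ∀ a, Ψ (κ A (2 * m + 1) a) = κ A (2 * m + 1) a := fun a => by
    show Θ (e _) = _
    rw [heC, hΘC]
  refine ⟨φ.comp Ψ.symm.toRingHom, a', β, γ, hφs.comp Ψ.symm.surjective, fun a => ?_, ha'n, hβ, hγ, ?_⟩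
  · show φ (Ψ.symm _) = _
    rw [(RingEquiv.symm_apply_eq Ψ).2 (hΨC a).symm, hφκ]
  · rw [ker_comp_equiv, hker]
    refine (span_map_eq Ψ (u := κ A (2 * m + 1) cA * u) ((hcu.map _).mul hu) ?_).symm
    show Θ (e F) = _
    have h : Θ (e F) = κ A (2 * m + 1) cA * Θ (c' * e F) := by
      rw [map_mul, hΘC, ← mul_assoc, ← map_mul, hcu.mul_val_inv, map_one, one_mul]
    rw [h, hΘF, mul_assoc]

end

end Groth.Agent.An92.MorseD
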